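import Cfsg.Agent.H95.QdNormal
import Cfsg.Agent.H94.SolvableSystems
import Cfsg.Agent.H93.QdTwo
import Cfsg.Agent.H34.ComponentProduct
import Cfsg.Agent.H96.SectionFree
import Cfsg.Prelude.Def_FusionComponents

/-!
# From a characteristic subgroup for `S₄`-free groups to `S₄`-free fusion systems

`SigmaFourHyp` is the group statement: every nontrivial finite 2-group has a nontrivial characteristic
subgroup normal in each `S₄`-free group of characteristic 2 having it as Sylow 2-subgroup. It is turned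
into a functor, and then gives: such a subgroup normal in every `S₄`-free saturated system, and
solvability, constrainedness and realizability of `Qd(p)`-free systems.
-/

set_option autoImplicit false

namespace Cfsg.Agent.H76.SFree

open Cfsg Cfsg.FusionSystem
open Cfsg.Agent

universe u

/-- `W` is normal in every `S₄`-free group of characteristic 2 having `S` as Sylow 2-subgroup. -/
def IsGood (S : Type u) [Group S] (W : Subgroup S) : Prop :=
  W.Characteristic ∧ ∀ (G : Type u) [Group G] [Finite G] (τ : S →* G), Function.Injective τ →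
    (∃ P : Sylow 2 G, (P : Subgroup G) = τ.range) →
    (¬ ∃ (K R : Subgroup G) (hR : (R.subgroupOf K).Normal),
      Nonempty ((K ⧸ R.subgroupOf K) ≃* Equiv.Perm (Fin 4))) →
    Subgroup.centralizer (Cfsg.pCore 2 G : Set G) ≤ Cfsg.pCore 2 G → (W.map τ).Normal

/-- The group statement. -/
def SigmaFourHyp : Prop :=
  ∀ (S : Type u) [Group S] [Finite S] [Nontrivial S], IsPGroup 2 S →
    ∃ W : Subgroup S, W ≠ ⊥ ∧ IsGood S W

/-- The join of all good subgroups. -/
def sigmaW (S : Type u) [Group S] : Subgroup S := sSup {W | IsGood S W}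

theorem sigmaW_ne_bot (h : SigmaFourHyp.{u}) (S : Type u) [Group S] [Finite S] (hS : IsPGroup 2 S)
    (hn : Nontrivial S) : sigmaW S ≠ ⊥ := by
  obtain ⟨W, hW, hg⟩ := h S hS
  exact ne_bot_of_le_ne_bot hW (le_sSup hg)

theorem IsGood.map {Q R : Type u} [Group Q] [Group R] (φ : Q ≃* R) {W : Subgroup Q} (h : IsGood Q W) :
    IsGood R (W.map φ.toMonoidHom) := by
  obtain ⟨hc, hn⟩ := h
  refine ⟨Subgroup.characteristic_iff_map_eq.2 fun ψ => ?_, fun G _ _ τ hτ hP h4 hch => ?_⟩
  · have h1 := Subgroup.characteristic_iff_map_eq.1 hc ((φ.trans ψ).trans φ.symm)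
    conv_rhs => rw [← h1]
    rw [Subgroup.map_map, Subgroup.map_map]
    congr 1
    ext x
    simp
  · have h2 := hn G (τ.comp φ.toMonoidHom) (hτ.comp φ.injective) (by
      rw [MonoidHom.range_comp, MonoidHom.range_eq_top.2 φ.surjective, ← MonoidHom.range_eq_map]
      exact hP) h4 hch
    rwa [← Subgroup.map_map] at h2

theorem sigmaW_map (Q R : Type u) [Group Q] [Group R] (φ : Q ≃* R) :
    (sigmaW Q).map φ.toMonoidHom = sigmaW R := by
  refine le_antisymm ?_ (sSup_le fun W hW => ?_)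
  · rw [Subgroup.map_le_iff_le_comap]
    refine sSup_le fun W hW => ?_
    rw [← Subgroup.map_le_iff_le_comap]
    exact le_sSup (hW.map φ)
  · have h := Subgroup.map_mono (f := φ.toMonoidHom) (le_sSup (hW.map φ.symm) :
      W.map φ.symm.toMonoidHom ≤ sigmaW Q)
    rw [Subgroup.map_map] at h
    have e : φ.toMonoidHom.comp φ.symm.toMonoidHom = MonoidHom.id R := by ext x; simp
    rwa [e, Subgroup.map_id] at h

theorem sigmaW_map_normal {S : Type u} [Group S] {G : Type u} [Group G] [Finite G] (τ : S →* G)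
    (hτ : Function.Injective τ) (hP : ∃ P : Sylow 2 G, (P : Subgroup G) = τ.range)
    (h4 : ¬ Cfsg.Involves (Equiv.Perm (Fin 4)) G)
    (hch : Subgroup.centralizer (Cfsg.pCore 2 G : Set G) ≤ Cfsg.pCore 2 G) :
    ((sigmaW S).map τ).Normal := by
  rw [sigmaW, sSup_eq_iSup', Subgroup.map_iSup, iSup]
  exact Subgroup.sSup_normal _ (by rintro _ ⟨⟨W, hW⟩, rfl⟩; exact hW.2 G τ hτ hP h4 hch)

/-- The functor attached to the group statement. -/
theorem sigmaW_isPFunctor (h : SigmaFourHyp.{u}) :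
    H95.IsPFunctor 2 (H95.typeFamily (fun Q [Group Q] => sigmaW.{u} Q)) :=
  H95.typeFamily_isPFunctor _ (fun Q _ _ hQ hn => sigmaW_ne_bot h Q hQ hn)
    (fun Q R _ _ _ _ φ => sigmaW_map Q R φ)

theorem involves_qd_two {G : Type*} [Group G] :
    Cfsg.Involves ↥(Cfsg.qd 2) G ↔ Cfsg.Involves (Equiv.Perm (Fin 4)) G := by
  obtain ⟨e⟩ := H93.exists_qd_two_equiv
  constructor <;> rintro ⟨K, R, hR, ⟨f⟩⟩
  · exact ⟨K, R, hR, ⟨f.trans e⟩⟩
  · exact ⟨K, R, hR, ⟨f.trans e.symm⟩⟩

theorem isSectionFree_qd_two {Ω : Type u} [Group Ω] {S : Subgroup Ω} {F : FusionSystem S} :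
    F.IsSectionFree 2 ↥(Cfsg.qd 2) ↔ F.IsSectionFree 2 (Equiv.Perm (Fin 4)) := by
  constructor <;> intro h Q hQ hc N hN L _ ι hm hinv
  · exact h Q hQ hc N hN L ι hm (involves_qd_two.2 hinv)
  · exact h Q hQ hc N hN L ι hm (involves_qd_two.1 hinv)

/-- The characteristic subgroup is normal in systems without a pair. -/
theorem sigmaW_isNormal (h : SigmaFourHyp.{u}) {Ω : Type u} [Group Ω] {S : Subgroup Ω} [Finite S]
    (hS : IsPGroup 2 S) {F : FusionSystem S} (hF : F.IsSaturated 2) (hfree : ¬ H95.HasQdPair F 2) :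
    F.IsNormal ((sigmaW ↥S).map S.subtype) := by
  haveI : Fact (Nat.Prime 2) := ⟨Nat.prime_two⟩
  refine H95.isNormal_of_not_hasQdPair (sigmaW_isPFunctor h) (fun L _ _ T hc hinv => ?_) hS hF hfree
  exact sigmaW_map_normal (T : Subgroup L).subtype Subtype.val_injective
    ⟨T, (Subgroup.range_subtype _).symm⟩ (fun h4 => hinv (involves_qd_two.2 h4)) hc

theorem characteristic_sigmaW (S : Type u) [Group S] : (sigmaW S).Characteristic :=
  Subgroup.characteristic_iff_map_eq.2 fun φ => sigmaW_map S S φ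

/-- A nontrivial characteristic subgroup normal in all `S₄`-free systems over a 2-group. -/
theorem exists_char_normal_two (h : SigmaFourHyp.{u}) {Ω : Type u} [Group Ω] {S : Subgroup Ω}
    [Finite S] (hS : IsPGroup 2 S) (hS1 : S ≠ ⊥) :
    ∃ W : Subgroup Ω, W ≤ S ∧ W ≠ ⊥ ∧ (W.subgroupOf S).Characteristic ∧
      ∀ F : FusionSystem S, F.IsSaturated 2 → F.IsSectionFree 2 (Equiv.Perm (Fin 4)) → F.IsNormal W := by
  haveI : Fact (Nat.Prime 2) := ⟨Nat.prime_two⟩
  refine ⟨(sigmaW ↥S).map S.subtype, Subgroup.map_subtype_le _, fun h0 => ?_, ?_, fun F hF hfree => ?_⟩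
  · rw [Subgroup.map_eq_bot_iff_of_injective _ S.subtype_injective] at h0
    exact sigmaW_ne_bot h ↥S hS ((Subgroup.nontrivial_iff_ne_bot S).2 hS1) h0
  · rw [Subgroup.subgroupOf, Subgroup.comap_map_eq_self_of_injective S.subtype_injective]
    exact characteristic_sigmaW _
  · exact sigmaW_isNormal h hS hF
      ((H95.isSectionFree_iff hS hF).1 (isSectionFree_qd_two.2 hfree))

/-- A nontrivial system without a pair has a nontrivial core. -/
theorem core_ne_bot (h : SigmaFourHyp.{u}) {p : ℕ} [Fact p.Prime] {Ω : Type u} [Group Ω]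
    {S : Subgroup Ω} [Finite S] (hS : IsPGroup p S) (hS1 : S ≠ ⊥) {F : FusionSystem S}
    (hF : F.IsSaturated p) (hfree : ¬ H95.HasQdPair F p) : F.core ≠ ⊥ := by
  by_cases hp : p = 2
  · subst hp
    obtain ⟨W, -, hW1, -, hn⟩ := exists_char_normal_two h hS hS1
    exact ne_bot_of_le_ne_bot hW1 (le_sSup (hn F hF
      (isSectionFree_qd_two.1 (H95.isSectionFree_of_not_hasQdPair hfree))))
  · exact ne_bot_of_le_ne_bot (H95.centerThompsonA_isPFunctor.ne_bot Ω S inferInstance hS hS1)
      (le_sSup (H95.isNormal_centerThompsonA hp hS hF hfree))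

/-- Systems without a pair are solvable. -/
theorem isSolvableSystem (h : SigmaFourHyp.{u}) {p : ℕ} [Fact p.Prime] {Ω : Type u} [Group Ω]
    {S : Subgroup Ω} [Finite S] (hS : IsPGroup p S) {F : FusionSystem S} (hF : F.IsSaturated p)
    (hfree : ¬ H95.HasQdPair F p) : F.IsSolvableSystem := by
  intro R hR hRS _ E hE
  refine core_ne_bot h ((hS.of_surjective _ (QuotientGroup.mk'_surjective (R.subgroupOf S))).to_subgroup _)
    (fun h0 => hRS (le_antisymm hR.1 fun x hx => ?_)) (H94.factor_isSaturated hS hF hR hE)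
    (fun hp => hfree (hp.of_factor hE))
  have h1 : (QuotientGroup.mk' (R.subgroupOf S) ⟨x, hx⟩) ∈ (⊥ : Subgroup (S ⧸ R.subgroupOf S)) :=
    h0 ▸ Subgroup.mem_top _
  exact Subgroup.mem_subgroupOf.1 ((QuotientGroup.eq_one_iff _).1 (Subgroup.mem_bot.1 h1))

/-- Systems without a pair are constrained. -/
theorem isConstrained (h : SigmaFourHyp.{u}) {p : ℕ} [Fact p.Prime] {Ω : Type u} [Group Ω]
    {S : Subgroup Ω} [Finite S] (hS : IsPGroup p S) {F : FusionSystem S} (hF : F.IsSaturated p)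
    (hfree : ¬ H95.HasQdPair F p) : F.IsConstrained p :=
  H94.isConstrained_of_solvable hS hF (isSolvableSystem h hS hF hfree)

/-- Systems without a pair are realizable. -/
theorem isRealizable (h : SigmaFourHyp.{u}) {p : ℕ} [Fact p.Prime] {Ω : Type u} [Group Ω]
    {S : Subgroup Ω} [Finite S] (hS : IsPGroup p S) {F : FusionSystem S} (hF : F.IsSaturated p)
    (hfree : ¬ H95.HasQdPair F p) : F.IsRealizable p := by
  obtain ⟨G, hG, ι, hfin, hr, hT, -⟩ := S5090.result p hS F (isConstrained h hS hF hfree)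
  exact ⟨G, hG, hfin, ι, hr, hT⟩

/-- Without an `S₃` section in any automizer there is no pair for the prime 2. -/
theorem not_hasQdPair_of_s3_free {Ω : Type*} [Group Ω] {S : Subgroup Ω} [Finite S]
    {F : FusionSystem S}
    (h3 : ∀ U : Subgroup Ω, U ≤ S → ¬ Cfsg.Involves (Equiv.Perm (Fin 3)) ↥(F.autGroup U)) :
    ¬ H95.HasQdPair F 2 := by
  rintro ⟨R, hR⟩
  have hRS := hR.le
  obtain ⟨U, hUR, χ, hχ, hA⟩ := hR
  obtain ⟨e⟩ := H34.exists_sl2_two_equiv
  let K : Subgroup ↥(F.autGroup U) :=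
    { carrier := {α | ∃ A : H95.SL2 2, ∀ x, χ ((α : MulAut U) x) = H95.act A (χ x)}
      one_mem' := ⟨1, fun x => by simp⟩
      mul_mem' := by
        rintro a b ⟨A, hA'⟩ ⟨B, hB⟩
        exact ⟨A * B, fun x => by rw [H95.act_mul, ← hB, ← hA']; rfl⟩
      inv_mem' := by
        rintro a ⟨A, hA'⟩
        refine ⟨A⁻¹, fun x => ?_⟩
        have h1 := hA' ((a : MulAut U)⁻¹ x)
        rw [MulAut.apply_inv_self] at h1
        rw [h1, ← H95.act_mul, inv_mul_cancel, H95.act_one]
        rfl }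
  have huniq : ∀ (α : K) (A B : H95.SL2 2), (∀ x, χ ((α.1 : MulAut U) x) = H95.act A (χ x)) →
      (∀ x, χ ((α.1 : MulAut U) x) = H95.act B (χ x)) → A = B := fun α A B ha hb =>
    H95.act_faithful fun v => by
      obtain ⟨x, rfl⟩ := hχ v
      rw [← ha, hb]
  choose f hf using fun α : K => α.2
  let g : K →* H95.SL2 2 := MonoidHom.mk' f fun a b => huniq (a * b) _ _ (hf _) fun x => by
    rw [H95.act_mul, ← hf b, ← hf a]; rfl
  refine h3 U (hUR.trans hRS) ?_
  refine H96.involves_of_surjective (e.toMonoidHom.comp g) (e.surjective.comp fun A => ?_)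
  obtain ⟨φ, hφ, -, hφU⟩ := hA A
  obtain ⟨α, hα, hαe⟩ := H96.exists_autGroup_of_mem F (H96.res_mem F hφ hUR)
    (fun x => (hφU x).1)
  have key : ∀ x : U, χ (α x) = H95.act A (χ x) := fun x => by
    obtain ⟨hx, he⟩ := hφU x
    rw [← he]
    exact congrArg χ (Subtype.ext (hαe x))
  exact ⟨⟨⟨α, hα⟩, A, key⟩, huniq _ _ _ (hf _) key⟩

end Cfsg.Agent.H76.SFree
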