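import Cfsg.Agent.H76.SFree.Assembly

/-!
# The rows resting on the group statement
-/

set_option autoImplicit false

namespace Cfsg.Agent.H76.SFree

open Cfsg Cfsg.FusionSystem
open Cfsg.Agent

universe u

variable {Ω : Type u} [Group Ω] {S : Subgroup Ω} [Finite S]

/-- The statement of row 5190. -/
theorem row5190 (h : SigmaFourHyp.{u}) (p : ℕ) [Fact p.Prime] (hS : IsPGroup p S) (hS1 : S ≠ ⊥)
    (F : FusionSystem S) (hF : F.IsSaturated p)
    (hfree : ∀ Q : Subgroup Ω, F.IsCentric Q → F.IsFullyNormalized Q →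
      ∀ E : FusionSystem (normalizerIn S Q), F.IsNormalizerSystem Q E →
        ∀ (G : Type u) (_ : Group G) (ι : ↥(normalizerIn S Q) →* G),
          E.IsModel p G ι → ¬ Cfsg.Involves ↥(Cfsg.qd p) G) :
    ∃ W : Subgroup Ω, W ≤ S ∧ W ≠ ⊥ ∧ (W.subgroupOf S).Characteristic ∧ F.IsNormal W := by
  have hsf : F.IsSectionFree p ↥(Cfsg.qd p) := fun Q hQ hc N hN L iL ι hm => hfree Q hc hQ N hN L iL ι hm
  by_cases hp : p = 2
  · subst hp
    obtain ⟨W, h1, h2, h3, h4⟩ := exists_char_normal_two h hS hS1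
    exact ⟨W, h1, h2, h3, h4 F hF (isSectionFree_qd_two.1 hsf)⟩
  · refine ⟨Cfsg.centerThompsonAOf S, H35.centerThompsonAOf_le S,
      H95.centerThompsonA_isPFunctor.ne_bot Ω S inferInstance hS hS1, ?_,
      H95.isNormal_centerThompsonA hp hS hF ((H95.isSectionFree_iff hS hF).1 hsf)⟩
    refine Subgroup.characteristic_iff_map_eq.2 fun φ => ?_
    have e : Cfsg.centerThompsonAOf S = (Cfsg.centerThompsonAOf (⊤ : Subgroup S)).map S.subtype := by
      rw [H35.map_centerThompsonAOf S.subtype ⊤ Subtype.val_injective.injOn, ← MonoidHom.range_eq_map,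
        Subgroup.range_subtype]
    rw [e, Subgroup.subgroupOf, Subgroup.comap_map_eq_self_of_injective S.subtype_injective,
      H35.map_centerThompsonAOf φ.toMonoidHom ⊤ φ.injective.injOn, ← MonoidHom.range_eq_map,
      MonoidHom.range_eq_top.2 φ.surjective]

/-- The statement of row 5237. -/
theorem row5237 (h : SigmaFourHyp.{u}) (hS : IsPGroup 2 S) (hS1 : S ≠ ⊥) :
    ∃ W : Subgroup Ω, W ≤ S ∧ W ≠ ⊥ ∧ (W.subgroupOf S).Characteristic ∧
      ∀ F : FusionSystem S, F.IsSaturated 2 → F.IsSectionFree 2 (Equiv.Perm (Fin 4)) → F.IsNormal W :=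
  exists_char_normal_two h hS hS1

/-- The statement of row 5282. -/
theorem row5282 (h : SigmaFourHyp.{u}) (p : ℕ) [Fact p.Prime] (hS : IsPGroup p ↥S) (F : FusionSystem S)
    (hF : F.IsSaturated p) (hfree : F.IsSectionFree p ↥(Cfsg.qd p)) :
    F.IsRealizable p ∧ F.IsSolvableSystem :=
  ⟨isRealizable h hS hF ((H95.isSectionFree_iff hS hF).1 hfree),
    isSolvableSystem h hS hF ((H95.isSectionFree_iff hS hF).1 hfree)⟩

/-- The statement of row 5109. -/
theorem row5109 (h : SigmaFourHyp.{u}) (hS : IsPGroup 2 S) (F : FusionSystem S) (hF : F.IsSaturated 2)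
    (h3 : ∀ U : Subgroup Ω, U ≤ S → ¬ Cfsg.Involves (Equiv.Perm (Fin 3)) ↥(F.autGroup U)) :
    F.IsConstrained 2 := by
  haveI : Fact (Nat.Prime 2) := ⟨Nat.prime_two⟩
  exact isConstrained h hS hF (not_hasQdPair_of_s3_free h3)

end Cfsg.Agent.H76.SFree
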